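import Cfsg.Agent.H545.EA.Cyc
import Cfsg.Agent.H274.EA.EThree
import Cfsg.Agent.H729.EA.Four
import Cfsg.Agent.H414.EPV.EThree
import Cfsg.Agent.H528.EP.UB3
import Cfsg.Agent.H392.HT.SFacts
import Cfsg.Agent.S2119

/-!
# S3499, V-ALT: alternating socles in dimension at least 13 (helper545)

`alt` : `BigOf IsAlternating` from the natural modules (`EA10`, `EA11`).
-/

set_option autoImplicit false
set_option exponentiation.threshold 400

namespace Cfsg.Agent.H545.EA

open Subgroup Cfsg Cfsg.Agent.H284 Cfsg.Agent.H419.EP Cfsg.Agent.H59.EP Cfsg.Agent.H614.AMod Cfsg.Agent.H964.AltMod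
open Cfsg.Agent.H528.EP
open scoped MatrixGroups Nat

/-! ### Numbers -/

def l9 : List (ℕ × ℕ) := [(2, 7), (3, 4), (5, 1), (7, 1)]
def l11 : List (ℕ × ℕ) := [(2, 8), (3, 4), (5, 2), (7, 1), (11, 1)]
def l14 : List (ℕ × ℕ) := [(2, 11), (3, 5), (5, 2), (7, 2), (11, 1), (13, 1)]
def l20 : List (ℕ × ℕ) := [(2, 18), (3, 8), (5, 4), (7, 2), (11, 1), (13, 1), (17, 1), (19, 1)]

/-- the bound of `galSum` -/
def gl (l : List (ℕ × ℕ)) : ℕ := (l.map fun x => gal x.1 x.2).sum

theorem gs_of {l : List (ℕ × ℕ)} {N : ℕ} (h1 : ∀ x ∈ l, x.1.Prime ∧ 0 < x.2) (h2 : (l.map Prod.fst).Nodup)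
    (hN : N = (l.map fun x => x.1 ^ x.2).prod) : galSum N ≤ gl l := by
  rw [hN]
  exact (galSum_list l h1 h2).1.le

theorem gs11 : galSum (11)! ≤ gl l11 := gs_of (by decide +kernel) (by decide +kernel) (by decide +kernel)
theorem gs14 : galSum (14)! ≤ gl l14 := gs_of (by decide +kernel) (by decide +kernel) (by decide +kernel)
theorem gs20 : galSum (20)! ≤ gl l20 := gs_of (by decide +kernel) (by decide +kernel) (by decide +kernel)

theorem num11 : 8 * ubQ (11)! (gl l11) < 2 ^ 120 := by decide +kernel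
theorem num14a : 8 * ubQ (14)! (gl l14) < 2 ^ 190 := by decide +kernel
theorem num14b : 8 * ubQ (14)! (gl l14) < 3 ^ 120 := by decide +kernel
theorem num14c : 8 * ubQ (14)! (gl l14) < 5 ^ 78 := by decide +kernel
theorem num20 : 8 * ubQ (20)! (gl l20) < 2 ^ 300 := by decide +kernel
theorem num9 : 8 * (362880 * (1 + (gl l9 * (362880 / 6) + 362880 ^ 2 / 60) * (2 * (362880 / 6)))) < 2 ^ 78 := by
  decide +kernel

theorem fact_add_le (n k : ℕ) : (n + k)! ≤ n ! * (n + k) ^ k := by
  induction k with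
  | zero => simp
  | succ k ih =>
    rw [← Nat.add_assoc, Nat.factorial_succ, pow_succ]
    calc (n + k + 1) * (n + k)! ≤ (n + k + 1) * (n ! * (n + k) ^ k) := Nat.mul_le_mul_left _ ih
      _ ≤ (n + k + 1) * (n ! * (n + k + 1) ^ k) :=
        Nat.mul_le_mul_left _ (Nat.mul_le_mul_left _ (Nat.pow_le_pow_left (by omega) k))
      _ = _ := by ring

theorem lt_pow (k : ℕ) : k + 1 ≤ 2 ^ k := Nat.lt_two_pow_self

theorem step {n k a e L L' : ℕ} (h : n ! ≤ 2 ^ L) (ha : n + k ≤ 2 ^ a) (he : a * k ≤ e) (hL : L + e ≤ L') :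
    (n + k)! ≤ 2 ^ L' := by
  calc (n + k)! ≤ n ! * (n + k) ^ k := fact_add_le n k
    _ ≤ 2 ^ L * (2 ^ a) ^ k := Nat.mul_le_mul h (Nat.pow_le_pow_left ha k)
    _ = 2 ^ (L + a * k) := by rw [← pow_mul, ← pow_add]
    _ ≤ 2 ^ L' := Nat.pow_le_pow_right (by norm_num) (by omega)

theorem fac5 {m : ℕ} (hm : 4 ≤ m) : (5 * m + 4)! ≤ 2 ^ (8 * m * (m - 1) - 3) := by
  induction m, hm using Nat.le_induction with
  | base => decide +kernel
  | succ m hm ih =>
    have h1 : 5 * (m + 1) + 4 = 5 * m + 4 + 5 := by ring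
    rw [h1]
    obtain ⟨t, rfl⟩ : ∃ t, m = t + 1 := ⟨m - 1, by omega⟩
    refine step (a := 3 * (t + 1)) (e := 16 * (t + 1)) ih ?_ (by omega) ?_
    · have h2 := lt_pow (t + 1)
      have h3 : (2 : ℕ) ^ 8 ≤ 2 ^ (2 * (t + 1)) := Nat.pow_le_pow_right (by norm_num) (by omega)
      have h4 : (2 : ℕ) ^ (3 * (t + 1)) = 2 ^ (t + 1) * 2 ^ (2 * (t + 1)) := by rw [← pow_add]; congr 1; ring
      rw [h4]
      calc 5 * (t + 1) + 4 + 5 ≤ (t + 1 + 1) * 2 ^ 8 := by omega
        _ ≤ _ := Nat.mul_le_mul h2 h3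
    · have h5 : 8 * (t + 1) * (t + 1 - 1) = 8 * t * t + 8 * t := by
        rw [Nat.add_sub_cancel]; ring
      have h6 : 8 * (t + 1 + 1) * (t + 1 + 1 - 1) = 8 * t * t + 24 * t + 16 := by
        rw [Nat.add_sub_cancel]; ring
      rw [h5, h6]
      omega

theorem fac3 {m : ℕ} (hm : 7 ≤ m) : (3 * m + 2)! ≤ 2 ^ (2 * m * (m - 1) - 3) := by
  induction m, hm using Nat.le_induction with
  | base => decide +kernel
  | succ m hm ih =>
    have h1 : 3 * (m + 1) + 2 = 3 * m + 2 + 3 := by ring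
    rw [h1]
    obtain ⟨t, rfl⟩ : ∃ t, m = t + 5 := ⟨m - 5, by omega⟩
    refine step (a := t + 5) (e := 4 * (t + 5)) ih ?_ (by omega) ?_
    · have h2 := lt_pow t
      have h4 : (2 : ℕ) ^ (t + 5) = 2 ^ t * 32 := by rw [pow_add]; norm_num
      rw [h4]
      omega
    · have h5 : 2 * (t + 5) * (t + 5 - 1) = 2 * t * t + 18 * t + 40 := by
        rw [show t + 5 - 1 = t + 4 from rfl]; ring
      have h6 : 2 * (t + 5 + 1) * (t + 5 + 1 - 1) = 2 * t * t + 22 * t + 60 := by
        rw [Nat.add_sub_cancel]; ring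
      rw [h5, h6]
      omega

theorem facS5 {k : ℕ} (hk : 2 ≤ k) : (5 * k + 14)! ≤ 2 ^ (16 * 4 ^ k - 3) := by
  induction k, hk using Nat.le_induction with
  | base => decide +kernel
  | succ k hk ih =>
    have h1 : 5 * (k + 1) + 14 = 5 * k + 14 + 5 := by ring
    rw [h1]
    have h2 := lt_pow k
    have h3 : (2 : ℕ) ^ k ≤ 4 ^ k := Nat.pow_le_pow_left (by norm_num) k
    refine step (a := k + 5) (e := 48 * 4 ^ k) ih ?_ (by omega) ?_
    · have h4 : (2 : ℕ) ^ (k + 5) = 2 ^ k * 32 := by rw [pow_add]; norm_num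
      rw [h4]
      omega
    · rw [pow_succ]
      omega

theorem facS3 {k : ℕ} (hk : 4 ≤ k) : (3 * k + 11)! ≤ 2 ^ (8 * 2 ^ k - 3) := by
  induction k, hk using Nat.le_induction with
  | base => decide +kernel
  | succ k hk ih =>
    have h1 : 3 * (k + 1) + 11 = 3 * k + 11 + 3 := by ring
    rw [h1]
    have h2 := lt_pow k
    refine step (a := k + 4) (e := 8 * 2 ^ k) ih ?_ (by omega) ?_
    · have h4 : (2 : ℕ) ^ (k + 4) = 2 ^ k * 16 := by rw [pow_add]; norm_num
      rw [h4]
      omega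
    · rw [pow_succ]
      omega

/-! ### The order of `A` -/

variable {Q : Type} [Group Q] [Finite Q] {A : Subgroup Q} {Γ : Subgroup (MulAut Q)} {ι : Type} [Fintype ι]
    [DecidableEq ι] {F : Type} [Field F] [Fintype F] {S P : Subgroup (GL ι F)}

theorem pow_le (b : Big A Γ S P) {q n : ℕ} (hq : q ≤ Fintype.card F) (hn : n ≤ Fintype.card ι) :
    q ^ (n * (n - 1) / 2) ≤ 8 * Nat.card Q := by
  refine le_trans ?_ b.ord
  refine le_trans (Nat.pow_le_pow_left hq _) (Nat.pow_le_pow_right (by have := b.two_le; omega) ?_)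
  apply Nat.div_le_div_right
  exact Nat.mul_le_mul hn (by omega)

theorem dvd_fact (b : Big A Γ S P) {c : ℕ} (hc : 5 ≤ c) (h6 : c ≠ 6) (e : socle P ≃* alternatingGroup (Fin c)) :
    Nat.card A ∣ c ! := by
  have h := H414.EPV.card_dvd_aut b e
  rwa [← Nat.card_congr (Equiv.ofBijective _ (Cfsg.Agent.S2119.result c (by omega) h6)), Nat.card_perm,
    Nat.card_fin] at h

theorem dvd_nine (b : Big A Γ S P) {c : ℕ} (hc : 5 ≤ c) (h9 : c ≤ 9) (e : socle P ≃* alternatingGroup (Fin c)) :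
    Nat.card A ∣ (9)! := by
  by_cases h6 : c = 6
  · subst h6
    exact ((H414.EPV.card_dvd_aut b e).trans Cfsg.Agent.H392.HT.card_mulAut_A6_dvd).trans (by decide)
  · exact (dvd_fact b hc h6 e).trans (Nat.factorial_dvd_factorial h9)

theorem ubq (b : Big A Γ S P) (hg : TwoGen.{0}) {N G : ℕ} (hN0 : N ≠ 0) (hAN : Nat.card A ∣ N) (hN : N < 60 ^ 60)
    (hG : galSum N ≤ G) : Nat.card Q ≤ ubQ N G :=
  EPT.card_le_gen b.simple b.ept hg (H414.EPV.noAb b) hN0 hAN hN hG

/-- `c ≤ 9` -/
theorem nine (b : Big A Γ S P) (hg : TwoGen.{0}) (hAN : Nat.card A ∣ (9)!) : False := by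
  have e9 : (9)! = (l9.map fun x => x.1 ^ x.2).prod := by decide +kernel
  have e9' : (9)! = 362880 := by decide +kernel
  have h1 := pow_le b (q := 2) (n := 13) b.two_le b.thirteen
  have h2 := EPT.ncard_le b.ept hg (H414.EPV.noAb b) (fun p hp h5 hd =>
    not_sq_dvd_list l9 (by decide +kernel) (by decide +kernel) (by decide +kernel) p hp h5 (by
      rw [← e9]
      exact hd.trans hAN))
  have hle : Nat.card A ≤ 362880 := by
    rw [← e9']
    exact Nat.le_of_dvd (Nat.factorial_pos 9) hAN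
  have h3 : galSum (Nat.card A) ≤ gl l9 :=
    (galSum_mono (Nat.factorial_pos 9).ne' hAN).trans (gs_of (by decide +kernel) (by decide +kernel) e9)
  have h4 := index_le_of (h2.trans (Nat.add_le_add (Nat.mul_le_mul h3 (Nat.div_le_div_right hle))
    (Nat.div_le_div_right (Nat.pow_le_pow_left hle 2))))
    (Cfsg.Agent.H173.EP.ub1 b.simple b.ept (by norm_num) fun _ hx => EPT.six_le b.ept (H414.EPV.noAb b) hx) le_rfl
  have h5 : Nat.card Q ≤ 362880 * (1 + (gl l9 * (362880 / 6) + 362880 ^ 2 / 60) * (2 * (362880 / 6))) := by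
    rw [← A.card_mul_index]
    refine Nat.mul_le_mul hle (h4.trans ?_)
    gcongr
  have h6 := num9
  have h7 : 2 ^ (13 * (13 - 1) / 2) = 2 ^ 78 := rfl
  omega

theorem eleven (b : Big A Γ S P) (hg : TwoGen.{0}) (hAN : Nat.card A ∣ (11)!) : Fintype.card ι ≤ 15 := by
  by_contra hn
  have h1 := pow_le b (q := 2) (n := 16) b.two_le (by omega)
  have h2 := ubq b hg (Nat.factorial_pos 11).ne' hAN (by decide +kernel) gs11
  have h3 := num11
  have h7 : 2 ^ (16 * (16 - 1) / 2) = 2 ^ 120 := rfl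
  omega

theorem fourteen (b : Big A Γ S P) (hg : TwoGen.{0}) (hAN : Nat.card A ∣ (14)!) :
    Fintype.card ι ≤ 19 ∧ (3 ≤ Fintype.card F → Fintype.card ι ≤ 15) ∧ Fintype.card F < 5 := by
  have h2 := ubq b hg (Nat.factorial_pos 14).ne' hAN (by decide +kernel) gs14
  refine ⟨?_, fun h3 => ?_, ?_⟩
  · by_contra hn
    have h1 := pow_le b (q := 2) (n := 20) b.two_le (by omega)
    have h3 := num14a
    have h7 : 2 ^ (20 * (20 - 1) / 2) = 2 ^ 190 := rfl
    omega
  · by_contra hn
    have h1 := pow_le b (q := 3) (n := 16) h3 (by omega)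
    have h3 := num14b
    have h7 : 3 ^ (16 * (16 - 1) / 2) = 3 ^ 120 := rfl
    omega
  · by_contra hn
    have h1 := pow_le b (q := 5) (n := 13) (by omega) b.thirteen
    have h3 := num14c
    have h7 : 5 ^ (13 * (13 - 1) / 2) = 5 ^ 78 := rfl
    omega

theorem twenty (b : Big A Γ S P) (hg : TwoGen.{0}) (hAN : Nat.card A ∣ (20)!) : Fintype.card ι ≤ 24 := by
  by_contra hn
  have h1 := pow_le b (q := 2) (n := 25) b.two_le (by omega)
  have h2 := ubq b hg (Nat.factorial_pos 20).ne' hAN (by decide +kernel) gs20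
  have h3 := num20
  have h7 : 2 ^ (25 * (25 - 1) / 2) = 2 ^ 300 := rfl
  omega

/-! ### Natural modules -/

theorem nat_kill (h10 : EA10) (h11 : EA11) (b : Big A Γ S P) {c : ℕ} (hc : 8 ≤ c)
    (f : P ≃* alternatingGroup (Fin c)) (hI : Indep (rep f)) : False := by
  have hC := Cfsg.Agent.H915.LD.core_of_residual b.core
  have h8 : 8 ≤ Fintype.card (Fin c) := by rw [Fintype.card_fin]; exact hc
  obtain ⟨w, hw⟩ := exists_natM f hC h8 hI
  have h13 := b.thirteen
  have h14 : 14 ≤ c := by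
    have h := dim_cases hC h8 hw
    rw [Fintype.card_fin] at h
    rcases h with ⟨-, h⟩ | ⟨-, h⟩ <;> omega
  by_cases h2 : (2 : F) = 0
  · exact h11 b c h14 h2 f w hw
  · exact h10 b c h14 h2 f w hw

theorem kill_e3 (b : Big A Γ S P) {c N L : ℕ} (hA : Nat.card A ∣ c !) (hcN : c ≤ N) (hN : N ! ≤ 2 ^ (L - 3)) (h3 : 3 ≤ L)
    (hL : L ≤ Fintype.card ι) : False :=
  H414.EPV.e3 b (L - 3) (((Nat.le_of_dvd (Nat.factorial_pos c) hA).trans (Nat.factorial_le hcN)).trans hN) (by omega)

/-- **V-ALT** -/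
theorem alt (h10 : EA10) (h11 : EA11) (hg : TwoGen.{0}) : BigOf (fun L _ => Cfsg.IsAlternating L) := by
  intro Q _ _ A Γ ι _ _ F _ _ S P b hX
  obtain ⟨c, hc5, ⟨e⟩⟩ := hX
  have hn := b.thirteen
  have hC := Cfsg.Agent.H915.LD.core_of_residual b.core
  rcases Nat.lt_or_ge c 10 with hc10 | hc10
  · exact nine b hg (dvd_nine b hc5 (by omega) e)
  have hA : Nat.card A ∣ c ! := dvd_fact b hc5 (by omega) e
  obtain ⟨p, hp⟩ := CharP.exists F
  have hpp : p.Prime := CharP.char_is_prime F p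
  have hp2 : (2 : F) = 0 ↔ p = 2 := by
    have h := CharP.cast_eq_zero_iff F p 2
    rw [Nat.cast_ofNat] at h
    rw [h]
    exact Nat.prime_dvd_prime_iff_eq hpp Nat.prime_two
  have hp3 : (3 : F) = 0 ↔ p = 3 := by
    have h := CharP.cast_eq_zero_iff F p 3
    rw [Nat.cast_ofNat] at h
    rw [h]
    exact Nat.prime_dvd_prime_iff_eq hpp Nat.prime_three
  have hp5 : (5 : F) = 0 ↔ p = 5 := by
    have h := CharP.cast_eq_zero_iff F p 5
    rw [Nat.cast_ofNat] at h
    rw [h]
    exact Nat.prime_dvd_prime_iff_eq hpp Nat.prime_five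
  have hq : p ≤ Fintype.card F := by
    obtain ⟨n, -, h⟩ := FiniteField.card F p
    rw [h]
    exact Nat.le_self_pow n.pos.ne' p
  by_cases hZ : (Cfsg.Geo.scalars ι F).subgroupOf P = ⊥
  · obtain ⟨f⟩ := equivOfSoc hZ e
    have hfin : Module.finrank F (ι → F) = Fintype.card ι := Module.finrank_fintype_fun_eq_card F
    rcases Nat.lt_or_ge c 15 with hc15 | hc15
    · have hA14 : Nat.card A ∣ (14)! := hA.trans (Nat.factorial_dvd_factorial (by omega))
      obtain ⟨h1, h2, h3⟩ := fourteen b hg hA14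
      have h5 : (5 : F) ≠ 0 := by
        intro h
        have := hp5.1 h
        omega
      rcases Nat.lt_or_ge (Fintype.card ι) 16 with hn16 | hn16
      · exact nat_kill h10 h11 b (by omega) f
          (indep_ten (by rw [Fintype.card_fin]; exact hc10) h5 (by rw [hfin]; omega))
      · rcases Nat.lt_or_ge c 12 with hc12 | hc12
        · have := eleven b hg (hA.trans (Nat.factorial_dvd_factorial (by omega)))
          omega
        · have hF : Nat.card F = 2 := by
            have h4 := b.two_le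
            rw [Nat.card_eq_fintype_card]
            by_contra h6
            have := h2 (by omega)
            omega
          exact nat_kill h10 h11 b (by omega) f (Cfsg.Agent.H274.EA.ea3 F (ι → F) c (rep f) hF hc12 (by rw [hfin]; omega))
    · rcases Nat.lt_or_ge 20 c with hc20 | hc20
      · by_cases h5 : (5 : F) = 0
        · have h3 : (3 : F) ≠ 0 := by
            intro h
            have h6 := hp3.1 h
            have h7 := hp5.1 h5
            omega
          obtain ⟨m, hm⟩ : ∃ m, m = c / 3 := ⟨_, rfl⟩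
          rcases Nat.lt_or_ge (Fintype.card ι) (2 * m * (m - 1)) with h8 | h8
          · exact nat_kill h10 h11 b (by omega) f (ea2 F (ι → F) c m (rep f) h3 (by omega) (by omega)
              (by rw [hfin, if_neg (by omega)]; exact h8))
          · have h9 : 2 * 7 * (7 - 1) ≤ 2 * m * (m - 1) := Nat.mul_le_mul (by omega) (by omega)
            exact kill_e3 b hA (N := 3 * m + 2) (by omega) (fac3 (by omega)) (by omega) h8
        · obtain ⟨m, hm⟩ : ∃ m, m = c / 5 := ⟨_, rfl⟩
          rcases Nat.lt_or_ge (Fintype.card ι) (8 * m * (m - 1)) with h8 | h8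
          · exact nat_kill h10 h11 b (by omega) f (ea1 F (ι → F) c m (rep f) h5 (by omega) (by omega)
              (by rw [hfin]; exact h8))
          · have h9 : 8 * 4 * (4 - 1) ≤ 8 * m * (m - 1) := Nat.mul_le_mul (by omega) (by omega)
            exact kill_e3 b hA (N := 5 * m + 4) (by omega) (fac5 (by omega)) (by omega) h8
      · have h1 := twenty b hg (hA.trans (Nat.factorial_dvd_factorial (by omega)))
        by_cases h5 : (5 : F) = 0
        · have h3 : (3 : F) ≠ 0 := by
            intro h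
            have h6 := hp3.1 h
            have h7 := hp5.1 h5
            omega
          exact nat_kill h10 h11 b (by omega) f (ea2 F (ι → F) c 5 (rep f) h3 (by omega) (by omega)
            (by rw [hfin, if_pos rfl]; omega))
        · exact nat_kill h10 h11 b (by omega) f (ea1 F (ι → F) c 3 (rep f) h5 (by omega) (by omega)
            (by rw [hfin]; omega))
  · obtain ⟨h1, h2, h3⟩ := Cfsg.Agent.H729.EA.ea4 c p hpp hp hc10 hC ⟨e⟩ hZ
    have hp0 := hpp.two_le
    rcases Nat.lt_or_ge c 15 with hc15 | hc15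
    · have hA14 : Nat.card A ∣ (14)! := hA.trans (Nat.factorial_dvd_factorial (by omega))
      obtain ⟨h4, h5, h6⟩ := fourteen b hg hA14
      by_cases h7 : p = 5
      · omega
      · have h8 := h2 h7
        have h9 : 16 * 1 ≤ 16 * 4 ^ ((c - 10) / 5) := Nat.mul_le_mul_left _ (Nat.succ_le_of_lt (by positivity))
        have h10 := h5 (by omega)
        omega
    · rcases Nat.lt_or_ge 20 c with hc20 | hc20
      · by_cases h7 : p = 5
        · have h8 := h3 h7
          obtain ⟨k, hk⟩ : ∃ k, k = (c - 9) / 3 := ⟨_, rfl⟩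
          rw [← hk] at h8
          have h9 : 8 * 2 ^ 4 ≤ 8 * 2 ^ k := Nat.mul_le_mul_left _ (Nat.pow_le_pow_right (by norm_num) (by omega))
          exact kill_e3 b hA (N := 3 * k + 11) (by omega) (facS3 (by omega)) (by omega) h8
        · have h8 := h2 h7
          obtain ⟨k, hk⟩ : ∃ k, k = (c - 10) / 5 := ⟨_, rfl⟩
          rw [← hk] at h8
          have h9 : 16 * 4 ^ 2 ≤ 16 * 4 ^ k := Nat.mul_le_mul_left _ (Nat.pow_le_pow_right (by norm_num) (by omega))
          exact kill_e3 b hA (N := 5 * k + 14) (by omega) (facS5 (by omega)) (by omega) h8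
      · have h4 := twenty b hg (hA.trans (Nat.factorial_dvd_factorial (by omega)))
        by_cases h7 : p = 5
        · have h8 := h3 h7
          have h9 : 8 * 2 ^ 2 ≤ 8 * 2 ^ ((c - 9) / 3) :=
            Nat.mul_le_mul_left _ (Nat.pow_le_pow_right (by norm_num) (by omega))
          omega
        · have h8 := h2 h7
          have h9 : 16 * 4 ^ 1 ≤ 16 * 4 ^ ((c - 10) / 5) :=
            Nat.mul_le_mul_left _ (Nat.pow_le_pow_right (by norm_num) (by omega))
          omega

end Cfsg.Agent.H545.EA
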