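import Cfsg.Agent.H419.EP.Big
import Cfsg.Agent.H964.AltMod.Mat
import Cfsg.Agent.H614.AMod.Ten

/-!
# S3499, V-ALT (socle alternating, dimension at least 13): the exact statements of the tasks (helper545)

A task `EAxx` is done when a theorem `… : H545.EA.EAxx` is proved. Target: `H419.EP.BigOf (fun L _ => Cfsg.IsAlternating L)`.
-/

set_option autoImplicit false

namespace Cfsg.Agent.H545.EA

open Subgroup Cfsg Cfsg.Agent.H284 Cfsg.Agent.H419.EP Cfsg.Agent.H614.AMod Cfsg.Agent.H964.AltMod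
open scoped MatrixGroups

/-! ### Representations of alternating groups -/

/-- EA1: disjoint 5-cycles, characteristic not 5 -/
def EA1 : Prop := ∀ (K V : Type) [Field K] [AddCommGroup V] [Module K V] [FiniteDimensional K V] (c m : ℕ)
  (ρ : Representation K (alternatingGroup (Fin c)) V), (5 : K) ≠ 0 → 2 ≤ m → 5 * m ≤ c →
  Module.finrank K V < 8 * m * (m - 1) → Indep ρ

/-- EA2: disjoint 3-cycles, characteristic not 3 -/
def EA2 : Prop := ∀ (K V : Type) [Field K] [AddCommGroup V] [Module K V] [FiniteDimensional K V] (c m : ℕ)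
  (ρ : Representation K (alternatingGroup (Fin c)) V), (3 : K) ≠ 0 → 5 ≤ m → 3 * m ≤ c →
  Module.finrank K V < (if m = 5 then 32 else 2 * m * (m - 1)) → Indep ρ

/-- EA3: a 5-cycle and a 7-cycle, over the field with two elements -/
def EA3 : Prop := ∀ (K V : Type) [Field K] [AddCommGroup V] [Module K V] [FiniteDimensional K V] (c : ℕ)
  (ρ : Representation K (alternatingGroup (Fin c)) V), Nat.card K = 2 → 12 ≤ c →
  Module.finrank K V ≤ 23 → Indep ρ

/-- EA4: spin representations -/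
def EA4 : Prop := ∀ {F : Type} [Field F] [Fintype F] {ι : Type} [Fintype ι] [DecidableEq ι] {P : Subgroup (GL ι F)}
  (c p : ℕ), p.Prime → CharP F p → 10 ≤ c → Cfsg.Agent.H915.LD.Core P →
  Nonempty (socle P ≃* alternatingGroup (Fin c)) → (Cfsg.Geo.scalars ι F).subgroupOf P ≠ ⊥ →
  p ≠ 2 ∧ (p ≠ 5 → 16 * 4 ^ ((c - 10) / 5) ≤ Fintype.card ι) ∧ (p = 5 → 8 * 2 ^ ((c - 9) / 3) ≤ Fintype.card ι)

/-! ### Natural modules -/

/-- EA10: natural modules in odd characteristic -/
def EA10 : Prop := ∀ {Q : Type} [Group Q] [Finite Q] {A : Subgroup Q} {Γ : Subgroup (MulAut Q)} {ι : Type}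
    [Fintype ι] [DecidableEq ι] {F : Type} [Field F] [Fintype F] {S P : Subgroup (GL ι F)}, Big A Γ S P →
    ∀ (c : ℕ), 14 ≤ c → (2 : F) ≠ 0 → ∀ (f : P ≃* alternatingGroup (Fin c)) (w : Fin c → Fin c → (ι → F)),
    NatM (rep f) w → False

/-- EA11: natural modules in characteristic two -/
def EA11 : Prop := ∀ {Q : Type} [Group Q] [Finite Q] {A : Subgroup Q} {Γ : Subgroup (MulAut Q)} {ι : Type}
    [Fintype ι] [DecidableEq ι] {F : Type} [Field F] [Fintype F] {S P : Subgroup (GL ι F)}, Big A Γ S P →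
    ∀ (c : ℕ), 14 ≤ c → (2 : F) = 0 → ∀ (f : P ≃* alternatingGroup (Fin c)) (w : Fin c → Fin c → (ι → F)),
    NatM (rep f) w → False

end Cfsg.Agent.H545.EA
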