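import Cfsg.Agent.H545.EA.Wt
import Cfsg.Agent.H545.EA.Stmts

/-!
# Disjoint 3-cycles are independent in small degree (helper545): `ea1 : EA1`, `ea2 : EA2`
-/

set_option autoImplicit false
set_option linter.unusedSectionVars false

namespace Cfsg.Agent.H545.EA

open Equiv Equiv.Perm Cfsg.Agent.H614.AMod

/-! ### Numbers -/

theorem choose_two_mul (m : ℕ) : m.choose 2 * 2 = m * (m - 1) := by
  rw [Nat.choose_two_right]
  exact Nat.div_mul_cancel (Nat.even_mul_pred_self m).two_dvd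

theorem num5 : ∀ (m s : ℕ), 2 ≤ s → s ≤ m → 8 * m * (m - 1) ≤ m.choose s * 4 ^ s := by
  intro m
  induction m with
  | zero => intro s h1 h2; omega
  | succ m ih =>
    intro s h1 h2
    rcases Nat.lt_or_ge 2 s with h3 | h3
    · obtain ⟨t, rfl⟩ : ∃ t, s = t + 1 := ⟨s - 1, by omega⟩
      rw [Nat.choose_succ_succ]
      have h4 := ih t (by omega) (by omega)
      obtain ⟨k, rfl⟩ : ∃ k, m = k + 2 := ⟨m - 2, by omega⟩
      rcases Nat.lt_or_ge (k + 2) (t + 1) with h5 | h5
      · rw [Nat.choose_eq_zero_of_lt h5, add_zero, pow_succ]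
        have : 8 * (k + 2 + 1) * (k + 2 + 1 - 1) ≤ 4 * (8 * (k + 2) * (k + 2 - 1)) := by
          rw [show k + 2 + 1 - 1 = k + 2 from rfl, show k + 2 - 1 = k + 1 from rfl]
          nlinarith
        calc _ ≤ 4 * (8 * (k + 2) * (k + 2 - 1)) := this
          _ ≤ 4 * ((k + 2).choose t * 4 ^ t) := Nat.mul_le_mul_left _ h4
          _ = _ := by ring
      · have h6 := ih (t + 1) (by omega) h5
        have : 8 * (k + 2 + 1) * (k + 2 + 1 - 1) ≤ 4 * (8 * (k + 2) * (k + 2 - 1)) + 8 * (k + 2) * (k + 2 - 1) := by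
          rw [show k + 2 + 1 - 1 = k + 2 from rfl, show k + 2 - 1 = k + 1 from rfl]
          nlinarith
        calc _ ≤ 4 * (8 * (k + 2) * (k + 2 - 1)) + 8 * (k + 2) * (k + 2 - 1) := this
          _ ≤ 4 * ((k + 2).choose t * 4 ^ t) + (k + 2).choose (t + 1) * 4 ^ (t + 1) :=
            Nat.add_le_add (Nat.mul_le_mul_left _ h4) h6
          _ = _ := by ring
    · have h4 : s = 2 := by omega
      subst h4
      have h5 := choose_two_mul (m + 1)
      have h6 : 8 * (m + 1) * (m + 1 - 1) = 8 * ((m + 1) * (m + 1 - 1)) := by rw [Nat.mul_assoc]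
      rw [h6, ← h5]
      omega

theorem num3 : ∀ (m s : ℕ), 6 ≤ m → 2 ≤ s → s ≤ m → 2 * m * (m - 1) ≤ m.choose s * 2 ^ s := by
  intro m s h6
  induction m, h6 using Nat.le_induction generalizing s with
  | base =>
    intro h1 h2
    interval_cases s <;> decide
  | succ m hm ih =>
    intro h1 h2
    rcases Nat.lt_or_ge 2 s with h3 | h3
    · obtain ⟨t, rfl⟩ : ∃ t, s = t + 1 := ⟨s - 1, by omega⟩
      rw [Nat.choose_succ_succ]
      have h4 := ih t (by omega) (by omega)
      obtain ⟨k, rfl⟩ : ∃ k, m = k + 6 := ⟨m - 6, by omega⟩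
      rcases Nat.lt_or_ge (k + 6) (t + 1) with h5 | h5
      · rw [Nat.choose_eq_zero_of_lt h5, add_zero, pow_succ]
        have : 2 * (k + 6 + 1) * (k + 6 + 1 - 1) ≤ 2 * (2 * (k + 6) * (k + 6 - 1)) := by
          rw [show k + 6 + 1 - 1 = k + 6 from rfl, show k + 6 - 1 = k + 5 from rfl]
          nlinarith
        calc _ ≤ 2 * (2 * (k + 6) * (k + 6 - 1)) := this
          _ ≤ 2 * ((k + 6).choose t * 2 ^ t) := Nat.mul_le_mul_left _ h4
          _ = _ := by ring
      · have h6 := ih (t + 1) (by omega) h5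
        have : 2 * (k + 6 + 1) * (k + 6 + 1 - 1) ≤ 2 * (2 * (k + 6) * (k + 6 - 1)) + 2 * (k + 6) * (k + 6 - 1) := by
          rw [show k + 6 + 1 - 1 = k + 6 from rfl, show k + 6 - 1 = k + 5 from rfl]
          nlinarith
        calc _ ≤ 2 * (2 * (k + 6) * (k + 6 - 1)) + 2 * (k + 6) * (k + 6 - 1) := this
          _ ≤ 2 * ((k + 6).choose t * 2 ^ t) + (k + 6).choose (t + 1) * 2 ^ (t + 1) :=
            Nat.add_le_add (Nat.mul_le_mul_left _ h4) h6
          _ = _ := by ring
    · have h4 : s = 2 := by omega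
      subst h4
      have h5 := choose_two_mul (m + 1)
      have h6 : 2 * (m + 1) * (m + 1 - 1) = 2 * ((m + 1) * (m + 1 - 1)) := by rw [Nat.mul_assoc]
      rw [h6, ← h5]
      omega

theorem num3' (m s : ℕ) (h5 : 5 ≤ m) (h1 : 2 ≤ s) (h2 : s ≤ m) :
    (if m = 5 then 32 else 2 * m * (m - 1)) ≤ m.choose s * 2 ^ s := by
  split_ifs with h
  · subst h
    interval_cases s <;> decide
  · exact num3 m s (by omega) h1 h2

/-! ### From 5-cycles to 3-cycles -/

section Ten

variable {K V : Type*} [Field K] [AddCommGroup V] [Module K V] {ρ : Representation K E10.A10 V}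

open E10

theorem g2_pst_of (hy : y' ∈ pst ρ (U ρ y)) : g2 ∈ pst ρ (U ρ g1) := by
  have key := fun h : A10 => pst_conj ρ (h := h) hy
  have k11 := key (h1 * h1')
  have k12 := key (h1 * h2')
  have k21 := key (h2 * h1')
  have k22 := key (h2 * h2')
  rw [e11, e11'] at k11
  rw [e12, e12'] at k12
  rw [e21, e21'] at k21
  rw [e22, e22'] at k22
  have k1 := mem_pst_sup ρ k11 k21
  have k2 := mem_pst_sup ρ k12 k22
  have k3 := Subgroup.mul_mem _ k1 k2
  rw [← g2_eq] at k3
  rw [g1_eq]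
  exact pst_anti ρ (U_mul_le ρ _ _) k3

end Ten

variable {α : Type*} [Fintype α] [DecidableEq α]
variable {K V : Type*} [Field K] [AddCommGroup V] [Module K V] [FiniteDimensional K V]
  {ρ : Representation K (alternatingGroup α) V}

/-- 5-cycles independent, then 3-cycles independent -/
theorem indep_of_five (h10 : 10 ≤ Fintype.card α)
    (H : ∀ q : Fin 10 ↪ α, ex q E10.y' ∈ pst ρ (U ρ (ex q E10.y))) : Indep ρ := by
  intro e
  obtain ⟨q, hq⟩ := exists_ext (l := 10) (by omega) h10 e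
  have e1 : ex e d1 = ex (r10.trans q) E10.g1 := by
    apply Subtype.ext
    rw [ex_swap2 e 0 1 1 2 d1 rfl, ex_swap2 (r10.trans q) 0 1 1 2 E10.g1 rfl]
    show _ = swap (q 0) (q 1) * swap (q 1) (q 2)
    rw [show q 0 = e 0 from hq 0, show q 1 = e 1 from hq 1, show q 2 = e 2 from hq 2]
  have e2 : ex e d2 = ex (r10.trans q) E10.g2 := by
    apply Subtype.ext
    rw [ex_swap2 e 3 4 4 5 d2 rfl, ex_swap2 (r10.trans q) 5 6 6 7 E10.g2 rfl]
    show _ = swap (q 3) (q 4) * swap (q 4) (q 5)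
    rw [show q 3 = e 3 from hq 3, show q 4 = e 4 from hq 4, show q 5 = e 5 from hq 5]
  rw [e1, e2]
  have h := g2_pst_of (ρ := res10 ρ (r10.trans q)) (fun w hw => H (r10.trans q) w hw)
  exact fun w hw => h w hw

/-! ### Blocks -/

section Blocks

variable {ℓ : ℕ} [hl : Fact ℓ.Prime]

/-- an embedding of two blocks extends to `m` blocks -/
theorem exists_blocks {m : ℕ} (hm : 2 ≤ m) (hc : ℓ * m ≤ Fintype.card α) (q : Fin (2 * ℓ) ↪ α) :
    ∃ e : Fin m × ZMod ℓ ↪ α, ∀ (i : Fin m) (x : ZMod ℓ) (h : (i : ℕ) < 2), e (i, x) = q ⟨x.val + ℓ * i, by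
      have h1 := ZMod.val_lt x
      have h2 : ℓ * (i : ℕ) ≤ ℓ * 1 := Nat.mul_le_mul_left _ (by omega)
      omega⟩ := by
  obtain ⟨q', hq'⟩ := exists_ext (l := m * ℓ) (k := 2 * ℓ) (Nat.mul_le_mul_right _ hm) (by rw [mul_comm]; exact hc) q
  have hb : ∀ p : Fin m × ZMod ℓ, p.2.val + ℓ * p.1 < m * ℓ := by
    rintro ⟨i, x⟩
    have h1 := ZMod.val_lt x
    have h2 : ℓ * ((i : ℕ) + 1) ≤ ℓ * m := Nat.mul_le_mul_left _ (by have := i.2; omega)
    rw [mul_add, mul_one] at h2
    rw [mul_comm m ℓ]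
    show x.val + ℓ * i < ℓ * m
    omega
  refine ⟨⟨fun p => q' ⟨p.2.val + ℓ * p.1, hb p⟩, ?_⟩, ?_⟩
  · rintro ⟨i, x⟩ ⟨j, y⟩ h
    have h1 := congrArg Fin.val (q'.injective h)
    change x.val + ℓ * i = y.val + ℓ * j at h1
    have hx := ZMod.val_lt x
    have hy := ZMod.val_lt y
    have hmod := congrArg (fun t => t % ℓ) h1
    simp only [Nat.add_mul_mod_self_left, Nat.mod_eq_of_lt hx, Nat.mod_eq_of_lt hy] at hmod
    have h2 : x = y := ZMod.val_injective ℓ hmod
    subst h2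
    have h3 : ℓ * (i : ℕ) = ℓ * j := by omega
    have h4 := Nat.eq_of_mul_eq_mul_left hl.out.pos h3
    rw [Fin.ext h4]
  · intro i x h
    rw [← hq']
    rfl

end Blocks

instance fact5 : Fact (Nat.Prime 5) := ⟨by norm_num⟩

/-- the two blocks -/
def lo5 (x : ZMod 5) : Fin 10 := ⟨x.val, by have := ZMod.val_lt x; omega⟩
def hi5 (x : ZMod 5) : Fin 10 := ⟨x.val + 5, by have := ZMod.val_lt x; omega⟩
def lo3 (x : ZMod 3) : Fin 6 := ⟨x.val, by have := ZMod.val_lt x; omega⟩
def hi3 (x : ZMod 3) : Fin 6 := ⟨x.val + 3, by have := ZMod.val_lt x; omega⟩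

theorem indep5 {m : ℕ} (hm : 2 ≤ m) (hc : 5 * m ≤ Fintype.card α) (h5 : (5 : K) ≠ 0)
    (hdim : Module.finrank K V < 8 * m * (m - 1)) : Indep ρ := by
  apply indep_of_five (by omega)
  intro q
  obtain ⟨e, he⟩ := exists_blocks (ℓ := 5) hm hc q
  have h2 : Odd 5 := by decide
  let i0 : Fin m := ⟨0, by omega⟩
  let i1 : Fin m := ⟨1, by omega⟩
  have h01 : i0 ≠ i1 := fun h => Nat.zero_ne_one (congrArg Fin.val h)
  have key := pst_block (e := e) (h2 := h2) (K := K) (i := i0) (j := i1) (by exact_mod_cast h5) h01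
    (fun s h3 h4 => lt_of_lt_of_le hdim (num5 m s h3 h4)) ρ
  have hq0 : ∀ x : ZMod 5, e (i0, x) = q (lo5 x) := by
    intro x
    rw [he i0 x (by show 0 < 2; omega)]
    rfl
  have hq1 : ∀ x : ZMod 5, e (i1, x) = q (hi5 x) := by
    intro x
    rw [he i1 x (by show 1 < 2; omega)]
    congr 1
  have hr : ∀ a : Fin 10, (∃ x, a = lo5 x) ∨ (∃ x, a = hi5 x) := by decide
  have ext : ∀ (b : Fin m → ZMod 5) (σ : alternatingGroup (Fin 10)),
      (∀ x : ZMod 5, (σ : Perm (Fin 10)) (lo5 x) = lo5 (b i0 + x)) →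
      (∀ x : ZMod 5, (σ : Perm (Fin 10)) (hi5 x) = hi5 (b i1 + x)) →
      (∀ i, i ≠ i0 → i ≠ i1 → b i = 0) → ex q σ = T e h2 b := by
    intro b σ hs0 hs1 hb
    apply Subtype.ext
    apply Equiv.ext
    intro x
    by_cases hx : ∃ p, e p = x
    · obtain ⟨⟨i, y⟩, rfl⟩ := hx
      show exP q σ (e (i, y)) = exq e (tr b) (e (i, y))
      rw [exq_apply, tr_apply]
      by_cases hi0 : i = i0
      · subst hi0
        rw [hq0, exP_apply, hs0, hq0]
      by_cases hi1 : i = i1
      · subst hi1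
        rw [hq1, exP_apply, hs1, hq1]
      rw [hb i hi0 hi1, zero_add, exP_of_notMem]
      intro a ha
      rcases hr a with ⟨x, rfl⟩ | ⟨x, rfl⟩
      · rw [← hq0] at ha
        exact hi0 (congrArg Prod.fst (e.injective ha)).symm
      · rw [← hq1] at ha
        exact hi1 (congrArg Prod.fst (e.injective ha)).symm
    · rw [not_exists] at hx
      show exP q σ x = exq e (tr b) x
      rw [exq_of_notMem e _ hx, exP_of_notMem]
      intro a ha
      rcases hr a with ⟨x, rfl⟩ | ⟨x, rfl⟩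
      · exact hx (i0, x) ((hq0 x).trans ha)
      · exact hx (i1, x) ((hq1 x).trans ha)
  have hy : ex q E10.y = T e h2 (Pi.single i0 1) := by
    apply ext
    · rw [Pi.single_eq_same]
      decide
    · rw [Pi.single_eq_of_ne h01.symm]
      decide
    · intro i hi _
      rw [Pi.single_eq_of_ne hi]
  have hy' : ex q E10.y' = T e h2 (Pi.single i1 1) := by
    apply ext
    · rw [Pi.single_eq_of_ne h01]
      decide
    · rw [Pi.single_eq_same]
      decide
    · intro i _ hi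
      rw [Pi.single_eq_of_ne hi]
  rw [hy, hy']
  exact key

theorem indep3 {m : ℕ} (hm : 5 ≤ m) (hc : 3 * m ≤ Fintype.card α) (h3 : (3 : K) ≠ 0)
    (hdim : Module.finrank K V < (if m = 5 then 32 else 2 * m * (m - 1))) : Indep ρ := by
  intro q
  obtain ⟨e, he⟩ := exists_blocks (ℓ := 3) (m := m) (by omega) hc q
  have h2 : Odd 3 := by decide
  let i0 : Fin m := ⟨0, by omega⟩
  let i1 : Fin m := ⟨1, by omega⟩
  have h01 : i0 ≠ i1 := fun h => Nat.zero_ne_one (congrArg Fin.val h)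
  have key := pst_block (e := e) (h2 := h2) (K := K) (i := i0) (j := i1) (by exact_mod_cast h3) h01
    (fun s h3 h4 => lt_of_lt_of_le hdim (num3' m s hm h3 h4)) ρ
  have hq0 : ∀ x : ZMod 3, e (i0, x) = q (lo3 x) := by
    intro x
    rw [he i0 x (by show 0 < 2; omega)]
    rfl
  have hq1 : ∀ x : ZMod 3, e (i1, x) = q (hi3 x) := by
    intro x
    rw [he i1 x (by show 1 < 2; omega)]
    congr 1
  have hr : ∀ a : Fin 6, (∃ x, a = lo3 x) ∨ (∃ x, a = hi3 x) := by decide
  have ext : ∀ (b : Fin m → ZMod 3) (σ : alternatingGroup (Fin 6)),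
      (∀ x : ZMod 3, (σ : Perm (Fin 6)) (lo3 x) = lo3 (b i0 + x)) →
      (∀ x : ZMod 3, (σ : Perm (Fin 6)) (hi3 x) = hi3 (b i1 + x)) →
      (∀ i, i ≠ i0 → i ≠ i1 → b i = 0) → ex q σ = T e h2 b := by
    intro b σ hs0 hs1 hb
    apply Subtype.ext
    apply Equiv.ext
    intro x
    by_cases hx : ∃ p, e p = x
    · obtain ⟨⟨i, y⟩, rfl⟩ := hx
      show exP q σ (e (i, y)) = exq e (tr b) (e (i, y))
      rw [exq_apply, tr_apply]
      by_cases hi0 : i = i0
      · subst hi0
        rw [hq0, exP_apply, hs0, hq0]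
      by_cases hi1 : i = i1
      · subst hi1
        rw [hq1, exP_apply, hs1, hq1]
      rw [hb i hi0 hi1, zero_add, exP_of_notMem]
      intro a ha
      rcases hr a with ⟨x, rfl⟩ | ⟨x, rfl⟩
      · rw [← hq0] at ha
        exact hi0 (congrArg Prod.fst (e.injective ha)).symm
      · rw [← hq1] at ha
        exact hi1 (congrArg Prod.fst (e.injective ha)).symm
    · rw [not_exists] at hx
      show exP q σ x = exq e (tr b) x
      rw [exq_of_notMem e _ hx, exP_of_notMem]
      intro a ha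
      rcases hr a with ⟨x, rfl⟩ | ⟨x, rfl⟩
      · exact hx (i0, x) ((hq0 x).trans ha)
      · exact hx (i1, x) ((hq1 x).trans ha)
  have hy : ex q d1 = T e h2 (Pi.single i0 1) := by
    apply ext
    · rw [Pi.single_eq_same]
      decide
    · rw [Pi.single_eq_of_ne h01.symm]
      decide
    · intro i hi _
      rw [Pi.single_eq_of_ne hi]
  have hy' : ex q d2 = T e h2 (Pi.single i1 1) := by
    apply ext
    · rw [Pi.single_eq_of_ne h01]
      decide
    · rw [Pi.single_eq_same]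
      decide
    · intro i _ hi
      rw [Pi.single_eq_of_ne hi]
  rw [hy, hy']
  exact key

theorem ea1 : EA1 := by
  intro K V _ _ _ _ c m ρ h5 hm hc hdim
  exact indep5 hm (by rw [Fintype.card_fin]; exact hc) h5 hdim

theorem ea2 : EA2 := by
  intro K V _ _ _ _ c m ρ h3 hm hc hdim
  exact indep3 hm (by rw [Fintype.card_fin]; exact hc) h3 hdim

end Cfsg.Agent.H545.EA
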