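import Cfsg.Agent.H614.AMod.Ten

/-!
# Weights of disjoint `ℓ`-cycles in representations of alternating groups (helper545)

`m` blocks of `ℓ` points; a weight with support of size `s ≥ 2` gives `(m choose s) (ℓ - 1)^s` weights.
-/

set_option autoImplicit false
set_option linter.unusedSectionVars false

namespace Cfsg.Agent.H545.EA

open Equiv Equiv.Perm Cfsg.Agent.H614.AMod

section Points

variable {m ℓ : ℕ} [hl : Fact ℓ.Prime]

/-- translations -/
def tr (b : Fin m → ZMod ℓ) : Perm (Fin m × ZMod ℓ) := prodCongrRight fun i => Equiv.addLeft (b i)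

/-- monomial permutations -/
def mon (σ : Perm (Fin m)) (u : Fin m → (ZMod ℓ)ˣ) : Perm (Fin m × ZMod ℓ) :=
  (prodCongrLeft fun _ => σ) * prodCongrRight fun i => (u i).mulLeft

theorem tr_apply (b : Fin m → ZMod ℓ) (i : Fin m) (x : ZMod ℓ) : tr b (i, x) = (i, b i + x) := rfl

theorem mon_apply (σ : Perm (Fin m)) (u : Fin m → (ZMod ℓ)ˣ) (i : Fin m) (x : ZMod ℓ) :
    mon σ u (i, x) = (σ i, u i * x) := rfl

theorem tr_add (b b' : Fin m → ZMod ℓ) : tr (b + b') = tr b * tr b' := by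
  apply Equiv.ext
  rintro ⟨i, x⟩
  rw [Perm.mul_apply, tr_apply, tr_apply, tr_apply, Pi.add_apply, add_assoc]

theorem tr_zero : tr (0 : Fin m → ZMod ℓ) = 1 := by
  apply Equiv.ext
  rintro ⟨i, x⟩
  rw [tr_apply, Pi.zero_apply, zero_add, Perm.one_apply]

theorem tr_nsmul (n : ℕ) (b : Fin m → ZMod ℓ) : tr (n • b) = tr b ^ n := by
  induction n with
  | zero => rw [zero_smul, tr_zero, pow_zero]
  | succ n ih => rw [succ_nsmul, tr_add, ih, pow_succ]

theorem mon_tr (σ : Perm (Fin m)) (u : Fin m → (ZMod ℓ)ˣ) (b : Fin m → ZMod ℓ) :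
    mon σ u * tr (fun k => (((u k)⁻¹ : (ZMod ℓ)ˣ) : ZMod ℓ) * b (σ k)) = tr b * mon σ u := by
  apply Equiv.ext
  rintro ⟨i, x⟩
  rw [Perm.mul_apply, Perm.mul_apply, tr_apply, mon_apply, mon_apply, tr_apply, mul_add, Units.mul_inv_cancel_left]

theorem mon_mul (σ τ : Perm (Fin m)) (u v : Fin m → (ZMod ℓ)ˣ) :
    mon σ u * mon τ v = mon (σ * τ) (fun k => u (τ k) * v k) := by
  apply Equiv.ext
  rintro ⟨i, x⟩
  rw [Perm.mul_apply, mon_apply, mon_apply, mon_apply, Perm.mul_apply, Units.val_mul, mul_assoc]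

theorem units_pow_odd (s : ℤˣ) {n : ℕ} (hn : Odd n) : s ^ n = s := by
  obtain ⟨k, rfl⟩ := hn
  rw [pow_succ, pow_mul, Int.units_sq, one_pow, one_mul]

theorem sign_tr (h2 : Odd ℓ) (b : Fin m → ZMod ℓ) : sign (tr b) = 1 := by
  have h : tr b ^ ℓ = 1 := by
    rw [← tr_nsmul]
    have : ℓ • b = 0 := by
      funext i
      rw [Pi.smul_apply, Pi.zero_apply, nsmul_eq_mul, CharP.cast_eq_zero, zero_mul]
    rw [this, tr_zero]
  have h3 := congrArg sign h
  rwa [map_pow, units_pow_odd _ h2, map_one] at h3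

theorem sign_mon (h2 : Odd ℓ) (σ : Perm (Fin m)) (u : Fin m → (ZMod ℓ)ˣ) :
    sign (mon σ u) = sign σ * ∏ i, sign ((u i).mulLeft : Perm (ZMod ℓ)) := by
  unfold mon
  rw [map_mul, sign_prodCongrRight, sign_prodCongrLeft, Finset.prod_const, Finset.card_univ, ZMod.card,
    units_pow_odd _ h2]

theorem sign_inv_mul (u : (ZMod ℓ)ˣ) :
    sign (u.mulLeft : Perm (ZMod ℓ)) * sign ((u⁻¹).mulLeft : Perm (ZMod ℓ)) = 1 := by
  rw [← map_mul]
  have : (u.mulLeft : Perm (ZMod ℓ)) * ((u⁻¹).mulLeft : Perm (ZMod ℓ)) = 1 := by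
    apply Equiv.ext
    intro x
    show (u : ZMod ℓ) * ((u⁻¹ : (ZMod ℓ)ˣ) * x) = x
    rw [Units.mul_inv_cancel_left]
  rw [this, map_one]

/-- an odd monomial permutation fixing a weight with two non-zero entries -/
theorem flip (h2 : Odd ℓ) (a : Fin m → ZMod ℓ) {i j : Fin m} (hij : i ≠ j) (hi : a i ≠ 0) (hj : a j ≠ 0) :
    ∃ (τ : Perm (Fin m)) (v : Fin m → (ZMod ℓ)ˣ), sign (mon τ v) = -1 ∧ ∀ k, a (τ k) * v k = a k := by
  let w : (ZMod ℓ)ˣ := Units.mk0 (a i) hi * (Units.mk0 (a j) hj)⁻¹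
  refine ⟨swap i j, Function.update (Function.update (fun _ => 1) i w) j w⁻¹, ?_, ?_⟩
  · rw [sign_mon h2, sign_swap hij]
    have h3 : ∏ k, sign ((Function.update (Function.update (fun _ => (1 : (ZMod ℓ)ˣ)) i w) j w⁻¹ k).mulLeft : Perm (ZMod ℓ)) = 1 := by
      rw [← Finset.mul_prod_erase Finset.univ _ (Finset.mem_univ i),
        ← Finset.mul_prod_erase (Finset.univ.erase i) _ (Finset.mem_erase.mpr ⟨hij.symm, Finset.mem_univ j⟩),
        Finset.prod_eq_one, mul_one, Function.update_self, Function.update_of_ne hij, Function.update_self]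
      · exact sign_inv_mul w
      · intro k hk
        rw [Finset.mem_erase, Finset.mem_erase] at hk
        rw [Function.update_of_ne hk.1, Function.update_of_ne hk.2.1]
        have : ((1 : (ZMod ℓ)ˣ).mulLeft : Perm (ZMod ℓ)) = 1 := by
          apply Equiv.ext
          intro x
          show ((1 : (ZMod ℓ)ˣ) : ZMod ℓ) * x = x
          rw [Units.val_one, one_mul]
        rw [this, map_one]
    rw [h3, mul_one]
  · intro k
    by_cases hki : k = i
    · subst hki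
      rw [swap_apply_left, Function.update_of_ne hij, Function.update_self]
      show a j * (a k * ((Units.mk0 (a j) hj)⁻¹ : (ZMod ℓ)ˣ)) = a k
      rw [Units.val_inv_eq_inv_val, Units.val_mk0]
      field_simp
    by_cases hkj : k = j
    · subst hkj
      rw [swap_apply_right, Function.update_self]
      show a i * ((Units.mk0 (a i) hi * (Units.mk0 (a k) hj)⁻¹)⁻¹ : (ZMod ℓ)ˣ) = a k
      rw [mul_inv_rev, inv_inv, Units.val_mul, Units.val_inv_eq_inv_val, Units.val_mk0, Units.val_mk0]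
      field_simp
    rw [swap_apply_of_ne_of_ne hki hkj, Function.update_of_ne hkj, Function.update_of_ne hki, Units.val_one, mul_one]

/-- even monomial permutations are transitive on the weights with support of size `s ≥ 2` -/
theorem exists_mon (h2 : Odd ℓ) (a a' : Fin m → ZMod ℓ)
    (hc : Fintype.card {i // a i ≠ 0} = Fintype.card {i // a' i ≠ 0}) (hs : 2 ≤ Fintype.card {i // a i ≠ 0}) :
    ∃ (σ : Perm (Fin m)) (u : Fin m → (ZMod ℓ)ˣ), sign (mon σ u) = 1 ∧ ∀ k, a' (σ k) * u k = a k := by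
  classical
  have ee : {i // a i ≠ 0} ≃ {i // a' i ≠ 0} := Fintype.equivOfCardEq hc
  have hm : ∀ k, a k ≠ 0 → a' (ee.extendSubtype k) ≠ 0 := fun k hk => ee.extendSubtype_mem k hk
  have hn : ∀ k, ¬ (a k ≠ 0) → ¬ (a' (ee.extendSubtype k) ≠ 0) := fun k hk => ee.extendSubtype_not_mem k hk
  let u : Fin m → (ZMod ℓ)ˣ := fun k => if h : a k ≠ 0 then Units.mk0 (a k) h * (Units.mk0 _ (hm k h))⁻¹ else 1
  have hu : ∀ k, a' (ee.extendSubtype k) * u k = a k := by
    intro k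
    by_cases h : a k ≠ 0
    · have h3 := hm k h
      show a' (ee.extendSubtype k) * ((if h : a k ≠ 0 then Units.mk0 (a k) h * (Units.mk0 _ (hm k h))⁻¹ else 1 : (ZMod ℓ)ˣ) : ZMod ℓ) = a k
      rw [dif_pos h, Units.val_mul, Units.val_inv_eq_inv_val, Units.val_mk0, Units.val_mk0]
      field_simp
    · have h3 := hn k h
      rw [not_not] at h h3
      rw [h3, h, zero_mul]
  rcases Int.units_eq_one_or (sign (mon ee.extendSubtype u)) with h | h
  · exact ⟨_, u, h, hu⟩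
  · obtain ⟨⟨i, hi⟩, ⟨j, hj⟩, hij⟩ := Fintype.exists_pair_of_one_lt_card (show 1 < Fintype.card {i // a i ≠ 0} by omega)
    obtain ⟨τ, v, h3, h4⟩ := flip h2 a (fun h => hij (Subtype.ext h)) hi hj
    refine ⟨ee.extendSubtype * τ, fun k => u (τ k) * v k, ?_, fun k => ?_⟩
    · rw [← mon_mul, map_mul, h, h3]
      decide
    · rw [Perm.mul_apply, Units.val_mul, ← mul_assoc, hu, h4]

end Points

section Alt

variable {m ℓ : ℕ} [hl : Fact ℓ.Prime] {α : Type*} [Fintype α] [DecidableEq α] (e : Fin m × ZMod ℓ ↪ α)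

/-- extension of permutations by an embedding -/
def exq : Perm (Fin m × ZMod ℓ) →* Perm α := extendDomainHom e.toEquivRange

theorem exq_apply (σ : Perm (Fin m × ZMod ℓ)) (i : Fin m × ZMod ℓ) : exq e σ (e i) = e (σ i) := by
  have := extendDomain_apply_image σ e.toEquivRange i
  rwa [Function.Embedding.toEquivRange_apply, Function.Embedding.toEquivRange_apply] at this

theorem exq_of_notMem (σ : Perm (Fin m × ZMod ℓ)) {x : α} (hx : ∀ i, e i ≠ x) : exq e σ x = x :=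
  extendDomain_apply_not_subtype _ _ (by rintro ⟨i, hi⟩; exact hx i hi)

theorem sign_exq (σ : Perm (Fin m × ZMod ℓ)) : sign (exq e σ) = sign σ := sign_extendDomain _ _

/-- the even monomial permutations -/
def mv {σ : Perm (Fin m × ZMod ℓ)} (h : sign σ = 1) : alternatingGroup α :=
  ⟨exq e σ, by rw [mem_alternatingGroup, sign_exq, h]⟩

/-- translations -/
def T (h2 : Odd ℓ) (b : Fin m → ZMod ℓ) : alternatingGroup α := mv e (sign_tr h2 b)

variable (h2 : Odd ℓ)

theorem T_add (b b' : Fin m → ZMod ℓ) : T e h2 (b + b') = T e h2 b * T e h2 b' := by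
  apply Subtype.ext
  show exq e (tr (b + b')) = exq e (tr b) * exq e (tr b')
  rw [tr_add, map_mul]

theorem T_zero : T e h2 (0 : Fin m → ZMod ℓ) = 1 := by
  apply Subtype.ext
  show exq e (tr 0) = 1
  rw [tr_zero, map_one]

theorem T_comm (b b' : Fin m → ZMod ℓ) : T e h2 b * T e h2 b' = T e h2 b' * T e h2 b := by
  rw [← T_add, ← T_add, add_comm]

theorem T_nsmul (n : ℕ) (b : Fin m → ZMod ℓ) : T e h2 (n • b) = T e h2 b ^ n := by
  induction n with
  | zero => rw [zero_smul, T_zero, pow_zero]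
  | succ n ih => rw [succ_nsmul, T_add, ih, pow_succ]

theorem T_pow (b : Fin m → ZMod ℓ) : T e h2 b ^ ℓ = 1 := by
  rw [← T_nsmul]
  have : ℓ • b = 0 := by
    funext i
    rw [Pi.smul_apply, Pi.zero_apply, nsmul_eq_mul, CharP.cast_eq_zero, zero_mul]
  rw [this, T_zero]

theorem mv_T {σ : Perm (Fin m)} {u : Fin m → (ZMod ℓ)ˣ} (h : sign (mon σ u) = 1) (b : Fin m → ZMod ℓ) :
    mv e h * T e h2 (fun k => (((u k)⁻¹ : (ZMod ℓ)ˣ) : ZMod ℓ) * b (σ k)) = T e h2 b * mv e h := by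
  apply Subtype.ext
  show exq e (mon σ u) * exq e (tr _) = exq e (tr b) * exq e (mon σ u)
  rw [← map_mul, mon_tr, map_mul]

variable {K V : Type*} [Field K] [AddCommGroup V] [Module K V] (ρ : Representation K (alternatingGroup α) V)
  (ψ : AddChar (ZMod ℓ) K)

/-- the weight `a` occurs -/
def Occ (a : Fin m → ZMod ℓ) : Prop := ∃ v : V, v ≠ 0 ∧ ∀ b, ρ (T e h2 b) v = ψ (∑ i, a i * b i) • v

variable {e h2 ρ ψ}

variable [FiniteDimensional K V]

theorem Occ.move {a a' : Fin m → ZMod ℓ} (h : Occ e h2 ρ ψ a) {σ : Perm (Fin m)} {u : Fin m → (ZMod ℓ)ˣ}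
    (hs : sign (mon σ u) = 1) (ha : ∀ k, a' (σ k) * u k = a k) : Occ e h2 ρ ψ a' := by
  obtain ⟨v, hv, hw⟩ := h
  refine ⟨ρ (mv e hs) v, E10.rho_ne_zero _ hv, fun b => ?_⟩
  rw [← rho_mul, ← mv_T, rho_mul, hw, map_smul]
  congr 2
  rw [← Equiv.sum_comp σ (fun i => a' i * b i)]
  apply Finset.sum_congr rfl
  intro k _
  rw [← ha k, mul_assoc, Units.mul_inv_cancel_left]

/-- the weights with support `T` of size `s` -/
abbrev Idx (m ℓ s : ℕ) : Type := Σ T : {T : Finset (Fin m) // T.card = s}, (T.1 → (ZMod ℓ)ˣ)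

theorem card_Idx (m s : ℕ) : Fintype.card (Idx m ℓ s) = m.choose s * (ℓ - 1) ^ s := by
  rw [Fintype.card_sigma]
  have : ∀ T : {T : Finset (Fin m) // T.card = s}, Fintype.card (T.1 → (ZMod ℓ)ˣ) = (ℓ - 1) ^ s := by
    rintro ⟨T, hT⟩
    rw [Fintype.card_fun, ZMod.card_units ℓ, Fintype.card_coe, hT]
  rw [Finset.sum_congr rfl fun T _ => this T, Finset.sum_const, smul_eq_mul, Finset.card_univ,
    Fintype.card_finset_len, Fintype.card_fin]

/-- the weight -/
def wt {s : ℕ} (j : Idx m ℓ s) (i : Fin m) : ZMod ℓ := if h : i ∈ j.1.1 then (j.2 ⟨i, h⟩ : ZMod ℓ) else 0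

theorem wt_ne {s : ℕ} (j : Idx m ℓ s) (i : Fin m) : wt j i ≠ 0 ↔ i ∈ j.1.1 := by
  unfold wt
  by_cases h : i ∈ j.1.1
  · rw [dif_pos h]
    exact ⟨fun _ => h, fun _ => (j.2 ⟨i, h⟩).ne_zero⟩
  · rw [dif_neg h]
    exact ⟨fun h' => absurd rfl h', fun h' => absurd h' h⟩

theorem wt_inj {s : ℕ} : Function.Injective (wt : Idx m ℓ s → Fin m → ZMod ℓ) := by
  rintro ⟨⟨T, hT⟩, g⟩ ⟨⟨T', hT'⟩, g'⟩ h
  have h1 : T = T' := by
    ext i
    rw [← wt_ne (⟨⟨T, hT⟩, g⟩ : Idx m ℓ s) i, ← wt_ne (⟨⟨T', hT'⟩, g'⟩ : Idx m ℓ s) i, h]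
  subst h1
  congr 1
  funext ⟨i, hi⟩
  have h2 := congrFun h i
  unfold wt at h2
  rw [dif_pos (show i ∈ T from hi), dif_pos (show i ∈ T from hi)] at h2
  exact Units.ext h2

theorem card_supp {s : ℕ} (j : Idx m ℓ s) : Fintype.card {i // wt j i ≠ 0} = s := by
  rw [Fintype.card_congr (Equiv.subtypeEquivRight (wt_ne j)), Fintype.card_coe]
  exact j.1.2

theorem Occ.count {a : Fin m → ZMod ℓ} (h : Occ e h2 ρ ψ a) (hψ : Function.Injective ψ)
    (hs : 2 ≤ Fintype.card {i // a i ≠ 0}) :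
    m.choose (Fintype.card {i // a i ≠ 0}) * (ℓ - 1) ^ (Fintype.card {i // a i ≠ 0}) ≤ Module.finrank K V := by
  rw [← card_Idx]
  have h3 : ∀ j : Idx m ℓ (Fintype.card {i // a i ≠ 0}), Occ e h2 ρ ψ (wt j) := by
    intro j
    obtain ⟨σ, u, h4, h5⟩ := exists_mon h2 a (wt j) (card_supp j).symm hs
    exact h.move h4 h5
  choose v hv hw using h3
  have h4 := card_le_of_weights (fun i : Fin m => ρ (T e h2 (Pi.single i 1)))
    (fun i j => rho_comm ρ (T_comm e h2 _ _)) ⊤ (fun j i => ψ (wt j i)) (by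
      intro j j' hj
      apply wt_inj
      funext i
      exact hψ (congrFun hj i)) v hv (fun _ => Submodule.mem_top) (by
      intro j i
      rw [hw j]
      congr 2
      rw [Finset.sum_eq_single i]
      · rw [Pi.single_eq_same, mul_one]
      · intro k _ hk
        rw [Pi.single_eq_of_ne hk, mul_zero]
      · intro h
        exact absurd (Finset.mem_univ i) h)
  rwa [finrank_top] at h4

/-- joint eigenvectors -/
theorem joint {G ι : Type*} [Group G] [Finite ι] [IsAlgClosed K] (ρ : Representation K G V) {W : Submodule K V}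
    (h0 : W ≠ ⊥) (y : ι → G) (hy : ∀ i j, y i * y j = y j * y i) (hW : ∀ i, H614.AMod.Inv ρ W (y i)) :
    ∃ v ∈ W, v ≠ 0 ∧ ∃ c : ι → K, ∀ i, v ∈ eg ρ (y i) (c i) := by
  classical
  have := Fintype.ofFinite ι
  have key : ∀ s : Finset ι, ∃ W' : Submodule K V, W' ≤ W ∧ W' ≠ ⊥ ∧ (∀ i, H614.AMod.Inv ρ W' (y i)) ∧
      ∀ i ∈ s, ∃ c, W' ≤ eg ρ (y i) c := by
    intro s
    induction s using Finset.induction_on with
    | empty => exact ⟨W, le_rfl, h0, hW, fun i hi => absurd hi (Finset.notMem_empty i)⟩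
    | insert i s hi ih =>
      obtain ⟨W', h1, h2, h3, h4⟩ := ih
      obtain ⟨c, hc⟩ := exists_eig ρ (h3 i) h2
      refine ⟨W' ⊓ eg ρ (y i) c, inf_le_left.trans h1, hc, fun j => (h3 j).inf ρ (inv_eg ρ (hy i j) c), ?_⟩
      intro j hj
      rw [Finset.mem_insert] at hj
      rcases hj with rfl | hj
      · exact ⟨c, inf_le_right⟩
      · obtain ⟨d, hd⟩ := h4 j hj
        exact ⟨d, inf_le_left.trans hd⟩
  obtain ⟨W', h1, h2, -, h4⟩ := key Finset.univ
  obtain ⟨v, hv, hv0⟩ := (Submodule.ne_bot_iff _).mp h2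
  choose c hc using fun i => h4 i (Finset.mem_univ i)
  exact ⟨v, h1 hv, hv0, c, fun i => hc i hv⟩

/-- **Two blocks are independent** if the dimension is small. -/
theorem inf_eq_bot [IsAlgClosed K] (hK : ((ℓ : ℕ) : K) ≠ 0) {i j : Fin m} (hij : i ≠ j)
    (hdim : ∀ s, 2 ≤ s → s ≤ m → Module.finrank K V < m.choose s * (ℓ - 1) ^ s)
    (ρ : Representation K (alternatingGroup α) V) :
    U ρ (T e h2 (Pi.single i 1)) ⊓ U ρ (T e h2 (Pi.single j 1)) = ⊥ := by
  classical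
  by_contra hne
  have : NeZero ((ℓ : ℕ) : K) := ⟨hK⟩
  obtain ⟨ζ, hζ⟩ := HasEnoughRootsOfUnity.exists_primitiveRoot K ℓ
  have hinv : ∀ k : Fin m, H614.AMod.Inv ρ (U ρ (T e h2 (Pi.single i 1)) ⊓ U ρ (T e h2 (Pi.single j 1)))
      (T e h2 (Pi.single k 1)) := fun k =>
    (inv_U ρ (T_comm e h2 _ _)).inf ρ (inv_U ρ (T_comm e h2 _ _))
  obtain ⟨v, hvW, hv0, c, hc⟩ := joint ρ hne (fun k : Fin m => T e h2 (Pi.single k 1))
    (fun _ _ => T_comm e h2 _ _) hinv
  let ψ : AddChar (ZMod ℓ) K := AddChar.zmodChar ℓ hζ.pow_eq_one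
  have hψ : ∀ a, ψ a = ζ ^ a.val := fun a => AddChar.zmodChar_apply _ a
  have hψi : Function.Injective ψ := by
    intro a b hab
    rw [hψ, hψ] at hab
    exact ZMod.val_injective ℓ (hζ.pow_inj (ZMod.val_lt a) (ZMod.val_lt b) hab)
  have hca : ∀ k, ∃ a : ZMod ℓ, ψ a = c k := by
    intro k
    obtain ⟨n, hn, hnc⟩ := hζ.eq_pow_of_pow_eq_one (eig_pow ρ (hc k) hv0 (T_pow e h2 _))
    exact ⟨(n : ZMod ℓ), by rw [hψ, ZMod.val_cast_of_lt hn, hnc]⟩
  choose a ha using hca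
  have hocc : Occ e h2 ρ ψ a := by
    refine ⟨v, hv0, ?_⟩
    have key : ∀ b ∈ (Set.univ : Set (Fin m → ZMod ℓ)), ρ (T e h2 b) v = ψ (∑ i, a i * b i) • v := by
      intro b _
      have hb : b = ∑ k, Pi.single k (b k) := (Finset.univ_sum_single b).symm
      have hs : ∀ (k : Fin m) (n : ℕ), ρ (T e h2 (Pi.single k (n : ZMod ℓ))) v = ψ (a k * n) • v := by
        intro k n
        have h5 : Pi.single k (n : ZMod ℓ) = n • (Pi.single k 1 : Fin m → ZMod ℓ) := by
          rw [← Pi.single_smul, nsmul_eq_mul, mul_one]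
        rw [h5, T_nsmul, pow_eg ρ (hc k) n, ← ha k, ← AddChar.map_nsmul_eq_pow, nsmul_eq_mul, mul_comm]
      have hgen : ∀ s : Finset (Fin m), ρ (T e h2 (∑ k ∈ s, Pi.single k (b k))) v = ψ (∑ k ∈ s, a k * b k) • v := by
        intro s
        induction s using Finset.induction_on with
        | empty => rw [Finset.sum_empty, Finset.sum_empty, T_zero, rho_one, AddChar.map_zero_eq_one, one_smul]
        | insert k s hk ih =>
          rw [Finset.sum_insert hk, Finset.sum_insert hk, T_add, rho_mul, ih, map_smul, AddChar.map_add_eq_mul]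
          have h6 := hs k (b k).val
          rw [ZMod.natCast_zmod_val] at h6
          rw [h6, smul_smul, mul_comm]
      have h7 := hgen Finset.univ
      rwa [← hb] at h7
    exact fun b => key b (Set.mem_univ b)
  have hai : ∀ k, v ∈ U ρ (T e h2 (Pi.single k 1)) → a k ≠ 0 := by
    intro k hk h0
    have h1 := hc k
    rw [← ha k, h0, AddChar.map_zero_eq_one] at h1
    have h3 : v ∈ U ρ (T e h2 (Pi.single k 1)) ⊓ eg ρ (T e h2 (Pi.single k 1)) 1 := ⟨hk, h1⟩
    rw [U_inf_fix ρ (T_pow e h2 _) hK] at h3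
    exact hv0 h3
  have hs2 : 2 ≤ Fintype.card {k // a k ≠ 0} := by
    have : 1 < Fintype.card {k // a k ≠ 0} :=
      Fintype.one_lt_card_iff.mpr ⟨⟨i, hai i hvW.1⟩, ⟨j, hai j hvW.2⟩, fun h => hij (congrArg Subtype.val h)⟩
    omega
  have hsm : Fintype.card {k // a k ≠ 0} ≤ m := by
    have := Fintype.card_subtype_le (fun k => a k ≠ 0)
    rwa [Fintype.card_fin] at this
  exact absurd (hocc.count hψi hs2) (not_le.mpr (hdim _ hs2 hsm))

theorem pst_block_closed [IsAlgClosed K] (hK : ((ℓ : ℕ) : K) ≠ 0) {i j : Fin m} (hij : i ≠ j)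
    (hdim : ∀ s, 2 ≤ s → s ≤ m → Module.finrank K V < m.choose s * (ℓ - 1) ^ s)
    (ρ : Representation K (alternatingGroup α) V) :
    T e h2 (Pi.single j 1) ∈ pst ρ (U ρ (T e h2 (Pi.single i 1))) := by
  intro w hw
  have h1 : ρ (T e h2 (Pi.single j 1)) w - w ∈ U ρ (T e h2 (Pi.single i 1)) ⊓ U ρ (T e h2 (Pi.single j 1)) :=
    ⟨Submodule.sub_mem _ (inv_U ρ (T_comm e h2 _ _) w hw) hw, sub_mem_U ρ _ w⟩
  rw [inf_eq_bot hK hij hdim ρ] at h1
  exact sub_eq_zero.mp h1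

/-- the same over any field -/
theorem pst_block (hK : ((ℓ : ℕ) : K) ≠ 0) {i j : Fin m} (hij : i ≠ j)
    (hdim : ∀ s, 2 ≤ s → s ≤ m → Module.finrank K V < m.choose s * (ℓ - 1) ^ s)
    (ρ : Representation K (alternatingGroup α) V) :
    T e h2 (Pi.single j 1) ∈ pst ρ (U ρ (T e h2 (Pi.single i 1))) := by
  apply pst_of_bc
  apply pst_block_closed
  · have h1 : algebraMap K (AlgebraicClosure K) (ℓ : ℕ) = ((ℓ : ℕ) : AlgebraicClosure K) := map_natCast _ _
    rw [← h1]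
    intro h
    exact hK ((algebraMap K (AlgebraicClosure K)).injective (h.trans (map_zero _).symm))
  · exact hij
  · rw [finrank_bc]
    exact hdim

end Alt

end Cfsg.Agent.H545.EA
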